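import Cfsg.Agent.H184.CC.Gen
import Cfsg.Agent.H830.Con22
import Cfsg.Agent.H816.Quasi
import Cfsg.Agent.OddHalf.D8.Fi22.KTrans
import Cfsg.Agent.CTwoTab.Fi22
import Cfsg.Agent.KFacts.FiTTh.Has
import Cfsg.Agent.KFacts.FiTTh.Quasi
import Cfsg.Agent.S0377
import Cfsg.Agent.S1697

/-!
# S3828: the rows `Fi22` and `Fi23` (helper184)

`p` odd: `eq_one_of_srg` on the 3-transpositions. `p = 2`: `Fi22`: direct argument with the 3-transpositions; `Fi23`: the
normaliser `2^11.M23`.
-/

set_option autoImplicit false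
set_option maxRecDepth 100000

namespace Cfsg.Agent.H184.CCFi

open Subgroup Cfsg Cfsg.Agent.H162.CCR Cfsg.Agent.Lib.Cores Cfsg.Agent.Fischer480.Defs Cfsg.Agent.H184.CCGen

section Fi22

open Cfsg.Agent.R01.FiFusion Cfsg.Agent.StdFi22.TLev
open Cfsg.Agent.OddHalf.D4.Spor.Fi22 (inv_cases comm_tri kt)
open Cfsg.Agent.StdFi22.MainFi22 (bas)
open Cfsg.Agent.R08.AutT (T)

theorem card_fi22 : Nat.card Spor.Fi22 = 64561751654400 := Cfsg.Agent.S1696.result.2

theorem finite_fi22 : Finite Spor.Fi22 := Cfsg.Agent.CTwoTab.Fi22.finite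

theorem simple_fi22 : IsSimpleGroup Spor.Fi22 := Cfsg.Agent.S1696.result.1

theorem na_fi22 : ¬ IsMulCommutative Spor.Fi22 := Cfsg.Agent.StdFi22.MainFi22.not_comm

theorem quasi_cent {d : Spor.Fi22} (hd : d ∈ T) : IsQuasisimple ↥(centralizer ({d} : Set Spor.Fi22)) ∧
    Nat.card ↥(center ↥(centralizer ({d} : Set Spor.Fi22))) = 2 ∧ centralizer ({d} : Set Spor.Fi22) ≠ ⊤ := by
  obtain ⟨b, c, ht⟩ := Cfsg.Agent.StdFi22.MainFi22.bas.exists_tri hd
  obtain ⟨R, F⟩ := Cfsg.Agent.CTwoTab.Fi22.facts hd ht.my ht.xy ht.cxy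
  refine ⟨F.quasi, Cfsg.Agent.CTwoTab.Fi22.card_center F, fun h => ?_⟩
  have h1 := Cfsg.Agent.CTwoTab.Fi22.card_cent F
  rw [h, card_top, card_fi22] at h1
  norm_num at h1

theorem odd22 {p : ℕ} [hp : Fact p.Prime] (hp2 : p ≠ 2) : CRow p Spor.Fi22 := by
  intro C h
  have := finite_fi22
  have h6 : IsT6 T := H830.Con22.isT6
  refine eq_one_of_srg hp2 h (E := T) kt.nonempty ?_ kt.conj ?_ (k := 693) (l := 180) (m := 126)
    (fun x hx => (TSp.UCount.numbers_six (h6.2.1 x hx)).1)
    (fun x hx y hy => (TSp.UCount.numbers_six (h6.2.1 x hx)).2.1 y hy) h6.2.2 (r := 63) (s := -9) (by norm_num)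
    (by norm_num) (by norm_num) (by norm_num)
  · intro d hd
    exact orderOf_eq_prime (by rw [pow_two]; exact kt.sq d hd) (kt.ne1 d hd)
  · intro d hd
    obtain ⟨h1, h2, h3⟩ := quasi_cent hd
    refine ⟨h3, pCore_eq_bot_of_quasisimple h1 ?_⟩
    rw [h2]
    exact fun h => hp2 ((Nat.prime_dvd_prime_iff_eq hp.out Nat.prime_two).1 h)

/-- an involution commuting with `a`, `b` and all transpositions commuting with `a`, `b` -/
theorem cases_inv {a b f : Spor.Fi22} (ha : a ∈ T) (hb : b ∈ T) (hab : a ≠ b) (cab : a * b = b * a)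
    (hff : f * f = 1) (hf1 : f ≠ 1)
    (hX : ∀ x ∈ T, x * a = a * x → x * b = b * x → x * f = f * x) : f = a ∨ f = b ∨ f = a * b := by
  -- a transposition commuting with `T ∩ C(a) ∩ C(b)`
  have key : ∀ y ∈ T, (∀ x ∈ T, x * a = a * x → x * b = b * x → x * y = y * x) → y = a ∨ y = b := by
    intro y hy hX'
    by_contra hne
    push Not at hne
    have h1 := hX' a ha rfl cab
    have h2 := hX' b hb cab.symm rfl
    obtain ⟨x, hx, k1, k2, k3⟩ := bas.config (a := a) (b := b) (c := y)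
      ⟨ha, hb, hy, hab, hne.1.symm, hne.2.symm, cab, h1, h2⟩
    exact k3 (hX' x hx k1 k2)
  rcases inv_cases hff hf1 with h1 | ⟨x, hx, y, hy, hxy, cxy, rfl⟩ | ⟨x, y, w, ht, rfl⟩
  · rcases key f h1 hX with h2 | h2
    · exact Or.inl h2
    · exact Or.inr (Or.inl h2)
  · right; right
    have h1 := key x hx fun t ht k1 k2 => (bas.comm_of_pair hx hy ht hxy cxy (hX t ht k1 k2)).1
    have h2 := key y hy fun t ht k1 k2 => (bas.comm_of_pair hx hy ht hxy cxy (hX t ht k1 k2)).2
    rcases h1 with rfl | rfl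
    · rcases h2 with rfl | rfl
      · exact absurd rfl hxy
      · rfl
    · rcases h2 with rfl | rfl
      · exact cab.symm
      · exact absurd rfl hxy
  · exfalso
    have h1 := key x ht.mx fun t htT k1 k2 => (comm_tri bas ht htT (hX t htT k1 k2)).1
    have h2 := key y ht.my fun t htT k1 k2 => (comm_tri bas ht htT (hX t htT k1 k2)).2.1
    have h3 := key w ht.mw fun t htT k1 k2 => (comm_tri bas ht htT (hX t htT k1 k2)).2.2
    have n1 := ht.xy
    have n2 := ht.xw
    have n3 := ht.yw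
    rcases h1 with h1 | h1 <;> rcases h2 with h2 | h2 <;> rcases h3 with h3 | h3
    · exact n1 (h1.trans h2.symm)
    · exact n1 (h1.trans h2.symm)
    · exact n2 (h1.trans h3.symm)
    · exact n3 (h2.trans h3.symm)
    · exact n3 (h2.trans h3.symm)
    · exact n2 (h1.trans h3.symm)
    · exact n1 (h1.trans h2.symm)
    · exact n1 (h1.trans h2.symm)

theorem two22 : CRow 2 Spor.Fi22 := by
  intro C h c hc
  have := finite_fi22
  have := simple_fi22
  have hfact : Fact (Nat.Prime 2) := ⟨Nat.prime_two⟩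
  have hO : pCore 2 Spor.Fi22 = ⊥ := pCore_eq_bot_of_simple na_fi22 2
  by_contra hc1
  -- `c` commutes with no transposition
  have F0 : ∀ d ∈ T, c * d ≠ d * c := by
    intro d hd hcd
    obtain ⟨h1, h2, h3⟩ := quasi_cent hd
    have hcm : c ∈ centralizer ({d} : Set Spor.Fi22) := mem_centralizer_singleton_iff.2 hcd
    have h4 := pCore_le_center_of_quasisimple (p := 2) h1 (h.loc _ h3 c hc hcm)
    have h5 : (⟨⟨c, hcm⟩, h4⟩ : center ↥(centralizer ({d} : Set Spor.Fi22))) ^ 2 = 1 := by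
      rw [← h2]
      exact pow_card_eq_one'
    have h6 : c ^ 2 = 1 := congrArg (fun t : center ↥(centralizer ({d} : Set Spor.Fi22)) =>
      ((t : ↥(centralizer ({d} : Set Spor.Fi22))) : Spor.Fi22)) h5
    rw [pow_two] at h6
    exact hc1 (h.sq_ne_one hO hc h6)
  -- the conjugates
  have conjT : ∀ x ∈ T, c⁻¹ * x * c ∈ T := by
    intro x hx
    have := kt.conj c⁻¹ x hx
    rwa [inv_inv] at this
  -- commuting with the conjugate
  have F2 : ∀ d ∈ T, d * (c⁻¹ * d * c) = (c⁻¹ * d * c) * d → c⁻¹ * (c⁻¹ * d * c) * c = d := by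
    intro d hd hcd
    exact conj_sq_eq h hO hc (kt.sq d hd) (kt.three _ (conjT _ (conjT _ hd)) _ hd) hcd
  have ne : ∀ d ∈ T, d ≠ c⁻¹ * d * c := by
    intro d hd h1
    apply F0 d hd
    calc c * d = c * (c⁻¹ * d * c) := by rw [← h1]
      _ = d * c := by group
  -- the involution `f`
  obtain ⟨k, hk⟩ := h.pel c hc
  obtain ⟨k', rfl⟩ : ∃ k', k = k' + 2 := by
    rcases k with _ | _ | k
    · rw [pow_zero] at hk
      exact absurd (orderOf_eq_one_iff.1 hk) hc1
    · exfalso
      apply hc1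
      apply h.sq_ne_one hO hc
      rw [← pow_two]
      have := pow_orderOf_eq_one c
      rw [hk] at this
      simpa using this
    · exact ⟨k, rfl⟩
  obtain ⟨f, hf⟩ : ∃ f, f = (c * c) ^ 2 ^ k' := ⟨_, rfl⟩
  have hfc : f = c ^ 2 ^ (k' + 1) := by
    rw [hf, ← pow_two, ← pow_mul]
    congr 1
    rw [pow_succ]
    ring
  have hff : f * f = 1 := by
    rw [hfc, ← pow_add]
    have e : 2 ^ (k' + 1) + 2 ^ (k' + 1) = orderOf c := by rw [hk]; ring
    rw [e, pow_orderOf_eq_one]
  have hf1 : f ≠ 1 := by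
    rw [hfc]
    intro h1
    have h2 := orderOf_dvd_of_pow_eq_one h1
    rw [hk] at h2
    have h3 := (Nat.pow_dvd_pow_iff_le_right (by norm_num : 1 < 2)).1 h2
    omega
  have hcf : c * f = f * c := by rw [hfc, ← pow_succ, ← pow_succ']
  -- `f` commutes with `d` if `d` commutes with its conjugate
  have F3 : ∀ d ∈ T, d * (c⁻¹ * d * c) = (c⁻¹ * d * c) * d → d * f = f * d := by
    intro d hd hcd
    have h1 := F2 d hd hcd
    have h2 : Commute (c * c) d := by
      show c * c * d = d * (c * c)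
      calc c * c * d = c * c * (c⁻¹ * (c⁻¹ * d * c) * c) := by rw [h1]
        _ = d * (c * c) := by group
    rw [hf]
    exact (h2.pow_left _).eq.symm
  -- the first step of the induction
  have F4 : ∀ a ∈ T, a * (c⁻¹ * a * c) = (c⁻¹ * a * c) * a → ∀ x ∈ T, x * a = a * x →
      x * (c⁻¹ * a * c) = (c⁻¹ * a * c) * x → x * (c⁻¹ * x * c) = (c⁻¹ * x * c) * x := by
    intro a ha hca x hx hxa hxb
    obtain ⟨b, hb⟩ : ∃ b, b = c⁻¹ * a * c := ⟨_, rfl⟩
    rw [← hb] at hca hxb
    have hbb : c⁻¹ * b * c = a := by rw [hb]; exact F2 a ha (by rw [← hb]; exact hca)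
    -- `c` commutes with `a b`
    have hcz : c * (a * b) = a * b * c := by
      have h1 : c⁻¹ * (a * b) * c = a * b := by
        calc c⁻¹ * (a * b) * c = (c⁻¹ * a * c) * (c⁻¹ * b * c) := by group
          _ = b * a := by rw [← hb, hbb]
          _ = a * b := hca.symm
      calc c * (a * b) = c * (c⁻¹ * (a * b) * c) := by rw [h1]
        _ = a * b * c := by group
    have hxz : x * (a * b) = a * b * x := by
      calc x * (a * b) = (x * a) * b := by group
        _ = a * (x * b) := by rw [hxa]; group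
        _ = a * b * x := by rw [hxb]; group
    have hz1 : centralizer ({a * b} : Set Spor.Fi22) ≠ ⊤ := by
      intro h1
      have h2 : a * b = 1 := by
        apply Cfsg.Agent.StdFi22.MainFi22.center_eq
        intro y
        have h3 : y ∈ centralizer ({a * b} : Set Spor.Fi22) := by rw [h1]; trivial
        exact (mem_centralizer_singleton_iff.1 h3).symm
      apply ne a ha
      rw [← hb]
      calc a = a * (b * b) := by rw [kt.sq b (by rw [hb]; exact conjT a ha), mul_one]
        _ = (a * b) * b := by group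
        _ = b := by rw [h2, one_mul]
    have hcN := h.loc _ hz1 c hc (mem_centralizer_singleton_iff.2 hcz)
    have hxC : x ∈ centralizer ({a * b} : Set Spor.Fi22) := mem_centralizer_singleton_iff.2 hxz
    obtain ⟨X, hX⟩ : ∃ X : ↥(centralizer ({a * b} : Set Spor.Fi22)), (X : Spor.Fi22) = x := ⟨⟨x, hxC⟩, rfl⟩
    obtain ⟨Y, hY⟩ : ∃ Y : ↥(centralizer ({a * b} : Set Spor.Fi22)), (Y : Spor.Fi22) = c :=
      ⟨⟨c, mem_centralizer_singleton_iff.2 hcz⟩, rfl⟩
    have hYN : Y ∈ pCore 2 ↥(centralizer ({a * b} : Set Spor.Fi22)) := by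
      have : Y = ⟨c, mem_centralizer_singleton_iff.2 hcz⟩ := Subtype.ext hY
      rw [this]
      exact hcN
    have hN : (pCore 2 ↥(centralizer ({a * b} : Set Spor.Fi22))).Normal := inferInstance
    have h1 : X * Y⁻¹ * X⁻¹ * Y ∈ pCore 2 ↥(centralizer ({a * b} : Set Spor.Fi22)) :=
      mul_mem (hN.conj_mem _ (inv_mem hYN) X) hYN
    obtain ⟨j, hj⟩ := (pCore_isPGroup (G := ↥(centralizer ({a * b} : Set Spor.Fi22))) 2) ⟨_, h1⟩
    have h2 : (x * (c⁻¹ * x * c)) ^ 2 ^ j = 1 := by
      have h3 := congrArg (fun t : pCore 2 ↥(centralizer ({a * b} : Set Spor.Fi22)) =>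
        ((t : ↥(centralizer ({a * b} : Set Spor.Fi22))) : Spor.Fi22)) hj
      have h4 : (x * c⁻¹ * x⁻¹ * c) ^ 2 ^ j = 1 := by
        have h5 : ((X : Spor.Fi22) * (Y : Spor.Fi22)⁻¹ * (X : Spor.Fi22)⁻¹ * (Y : Spor.Fi22)) ^ 2 ^ j = 1 := by
          simpa using h3
        rwa [hX, hY] at h5
      have h5 : x⁻¹ = x := inv_eq_of_mul_eq_one_left (kt.sq x hx)
      rw [h5] at h4
      have h6 : x * (c⁻¹ * x * c) = x * c⁻¹ * x * c := by group
      rw [h6]
      exact h4
    exact comm_of_two (kt.sq x hx) (kt.sq _ (conjT x hx)) (kt.three x hx _ (conjT x hx)) h2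
  -- a transposition commuting with its conjugate
  obtain ⟨a, ha, hca⟩ : ∃ a ∈ T, a * (c⁻¹ * a * c) = (c⁻¹ * a * c) * a := by
    obtain ⟨P, hP⟩ := (h.isPGroup_zpowers hc).exists_le_sylow
    have hcP : c ∈ (P : Subgroup Spor.Fi22) := hP (Subgroup.mem_zpowers c)
    obtain ⟨t, ht⟩ := kt.nonempty
    have htp : IsPGroup 2 (Subgroup.zpowers t) :=
      IsPGroup.of_card (n := 1) (by
        rw [Nat.card_zpowers, pow_one]
        exact orderOf_eq_prime (by rw [pow_two]; exact kt.sq t ht) (kt.ne1 t ht))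
    obtain ⟨Q, hQ⟩ := htp.exists_le_sylow
    obtain ⟨g, hg⟩ := MulAction.exists_smul_eq Spor.Fi22 Q P
    have h1 : g * t * g⁻¹ ∈ (P : Subgroup Spor.Fi22) := by
      rw [← hg]
      exact mem_smul_sylow (hQ (Subgroup.mem_zpowers t))
    refine ⟨g * t * g⁻¹, kt.conj g t ht, ?_⟩
    have hgt := kt.conj g t ht
    have h2 : g * t * g⁻¹ * (c⁻¹ * (g * t * g⁻¹) * c) ∈ (P : Subgroup Spor.Fi22) :=
      mul_mem h1 (mul_mem (mul_mem (inv_mem hcP) h1) hcP)
    obtain ⟨j, hj⟩ := P.2 ⟨_, h2⟩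
    refine comm_of_two (kt.sq _ hgt) (kt.sq _ (conjT _ hgt)) (kt.three _ hgt _ (conjT _ hgt)) (k := j) ?_
    exact congrArg Subtype.val hj
  -- `f = a a^c`
  have F5 : ∀ a ∈ T, a * (c⁻¹ * a * c) = (c⁻¹ * a * c) * a → f = a * (c⁻¹ * a * c) := by
    intro a ha hca
    rcases cases_inv ha (conjT a ha) (ne a ha) hca hff hf1 (fun x hx k1 k2 => F3 x hx (F4 a ha hca x hx k1 k2))
      with h1 | h1 | h1
    · exfalso
      apply F0 a ha
      rw [← h1]
      exact hcf
    · exfalso
      apply F0 _ (conjT a ha)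
      rw [← h1]
      exact hcf
    · exact h1
  obtain ⟨x, hx, k1, k2, k3, k4⟩ := kt.nb a ha _ (conjT a ha)
  have h1 := F5 a ha hca
  have h2 := F5 x hx (F4 a ha hca x hx k3 k4)
  rcases kt.uniq a ha _ (conjT a ha) x hx _ (conjT x hx) (ne a ha) hca (F4 a ha hca x hx k3 k4)
    (h1.symm.trans h2) with h3 | h3
  · exact k1 h3
  · exact k2 h3

/-- **Row `Fi22`** -/
theorem crow_fi22 {p : ℕ} [hp : Fact p.Prime] {K : Type*} [Group K] (h : Spor.IsoFi22 K) : CRow p K := by
  obtain ⟨e⟩ := h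
  refine CRow.of_equiv e ?_
  by_cases hp2 : p = 2
  · subst hp2
    exact two22
  · exact odd22 hp2

end Fi22

section Fi23

open Cfsg.Agent.KFacts.FiTTh
open Cfsg.Agent.Fischer.Fi23Z (z0)

theorem card_fi23 : Nat.card Spor.Fi23 = 4089470473293004800 := Cfsg.Agent.S1697.result.2

theorem finite_fi23 : Finite Spor.Fi23 := Nat.finite_of_card_ne_zero (by rw [card_fi23]; norm_num)

theorem simple_fi23 : IsSimpleGroup Spor.Fi23 := Cfsg.Agent.S1697.result.1

theorem na_fi23 : ¬ IsMulCommutative Spor.Fi23 := by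
  intro hm
  have := simple_fi23
  have := finite_fi23
  let _ : CommGroup Spor.Fi23 := { (inferInstance : Group Spor.Fi23) with mul_comm := hm.is_comm.comm }
  have h := IsSimpleGroup.prime_card (α := Spor.Fi23)
  rw [card_fi23] at h
  norm_num at h

theorem card_center23 : Nat.card ↥(center ↥(centralizer ({z0} : Set Spor.Fi23))) = 2 := by
  have h := Quasi.cover.1
  rw [Cent.K_eq] at h
  exact h

theorem z0_ne_one : (z0 : Spor.Fi23) ≠ 1 := by
  intro h
  have h1 := card_center23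
  have h2 : centralizer ({z0} : Set Spor.Fi23) = ⊤ := by
    rw [h, eq_top_iff]
    intro x _
    exact mem_centralizer_singleton_iff.2 (by rw [mul_one, one_mul])
  have := simple_fi23
  have h4 : center Spor.Fi23 = ⊤ := by
    rcases (inferInstance : (center Spor.Fi23).Normal).eq_bot_or_eq_top with h3 | h3
    · exfalso
      have h5 : Subsingleton ↥(center ↥(centralizer ({z0} : Set Spor.Fi23))) := by
        refine ⟨fun x y => ?_⟩
        have key : ∀ x : ↥(center ↥(centralizer ({z0} : Set Spor.Fi23))),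
            ((x : ↥(centralizer ({z0} : Set Spor.Fi23))) : Spor.Fi23) = 1 := by
          intro x
          have h6 : ((x : ↥(centralizer ({z0} : Set Spor.Fi23))) : Spor.Fi23) ∈ center Spor.Fi23 := by
            rw [mem_center_iff]
            intro g
            have hg : g ∈ centralizer ({z0} : Set Spor.Fi23) := by rw [h2]; trivial
            exact congrArg Subtype.val (mem_center_iff.1 x.2 ⟨g, hg⟩)
          rw [h3, mem_bot] at h6
          exact h6
        apply Subtype.ext
        apply Subtype.ext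
        rw [key x, key y]
      have h7 := Nat.card_of_subsingleton (1 : ↥(center ↥(centralizer ({z0} : Set Spor.Fi23))))
      omega
    · exact h3
  apply na_fi23
  exact ⟨⟨fun x y => (mem_center_iff.1 (by rw [h4]; exact mem_top y : y ∈ center Spor.Fi23) x)⟩⟩

theorem cent_z0 {p : ℕ} [hp : Fact p.Prime] (hp2 : p ≠ 2) : centralizer ({z0} : Set Spor.Fi23) ≠ ⊤ ∧
    pCore p ↥(centralizer ({z0} : Set Spor.Fi23)) = ⊥ := by
  have := finite_fi23
  constructor
  · intro h
    have h1 : z0 ∈ center Spor.Fi23 := by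
      rw [mem_center_iff]
      intro g
      have hg : g ∈ centralizer ({z0} : Set Spor.Fi23) := by rw [h]; trivial
      exact mem_centralizer_singleton_iff.1 hg
    have := simple_fi23
    rcases (inferInstance : (center Spor.Fi23).Normal).eq_bot_or_eq_top with h3 | h3
    · rw [h3, mem_bot] at h1
      exact z0_ne_one h1
    · apply na_fi23
      exact ⟨⟨fun x y => (mem_center_iff.1 (by rw [h3]; exact mem_top y : y ∈ center Spor.Fi23) x)⟩⟩
  · refine pCore_eq_bot_of_quasisimple Quasi.qs ?_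
    rw [card_center23]
    exact fun h => hp2 ((Nat.prime_dvd_prime_iff_eq hp.out Nat.prime_two).1 h)

/-- conjugate elements have isomorphic centralizers -/
theorem cent_conj {G : Type*} [Group G] [Finite G] {p : ℕ} {x y : G} (h : IsConj x y)
    (hx : centralizer ({x} : Set G) ≠ ⊤ ∧ pCore p ↥(centralizer ({x} : Set G)) = ⊥) :
    centralizer ({y} : Set G) ≠ ⊤ ∧ pCore p ↥(centralizer ({y} : Set G)) = ⊥ := by
  obtain ⟨g, rfl⟩ := isConj_iff.1 h
  have key : ∀ z : G, z ∈ centralizer ({x} : Set G) → g * z * g⁻¹ ∈ centralizer ({g * x * g⁻¹} : Set G) := by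
    intro z hz
    rw [mem_centralizer_singleton_iff] at hz ⊢
    calc g * z * g⁻¹ * (g * x * g⁻¹) = g * (z * x) * g⁻¹ := by group
      _ = g * x * g⁻¹ * (g * z * g⁻¹) := by rw [hz]; group
  have key' : ∀ z : G, z ∈ centralizer ({g * x * g⁻¹} : Set G) → g⁻¹ * z * g ∈ centralizer ({x} : Set G) := by
    intro z hz
    rw [mem_centralizer_singleton_iff] at hz ⊢
    calc g⁻¹ * z * g * x = g⁻¹ * (z * (g * x * g⁻¹)) * g := by group
      _ = x * (g⁻¹ * z * g) := by rw [hz]; group
  constructor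
  · intro h1
    apply hx.1
    rw [eq_top_iff]
    intro z _
    have h2 : g * z * g⁻¹ ∈ centralizer ({g * x * g⁻¹} : Set G) := by rw [h1]; trivial
    have h3 := key' _ h2
    have e : g⁻¹ * (g * z * g⁻¹) * g = z := by group
    rwa [e] at h3
  · let f : ↥(centralizer ({g * x * g⁻¹} : Set G)) ≃* ↥(centralizer ({x} : Set G)) :=
      { toFun := fun z => ⟨g⁻¹ * z * g, key' _ z.2⟩
        invFun := fun z => ⟨g * z * g⁻¹, key _ z.2⟩
        left_inv := fun z => by ext; show g * (g⁻¹ * z * g) * g⁻¹ = z; group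
        right_inv := fun z => by ext; show g⁻¹ * (g * z * g⁻¹) * g = z; group
        map_mul' := fun a b => by ext; show g⁻¹ * (a * b) * g = g⁻¹ * a * g * (g⁻¹ * b * g); group }
    rw [eq_bot_iff]
    intro z hz
    have h1 := pCore_of_equiv f hz
    rw [hx.2, mem_bot] at h1
    rw [mem_bot]
    exact f.injective (by rw [h1, map_one])

theorem odd23 {p : ℕ} [hp : Fact p.Prime] (hp2 : p ≠ 2) : CRow p Spor.Fi23 := by
  intro C h
  have := finite_fi23
  have h7 : IsT7 R08.FiTwentyThree.D := H816.Quasi.isT7_of H830.Con22.isT6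
  have hz := cent_z0 hp2
  refine eq_one_of_srg hp2 h (E := R08.FiTwentyThree.D) ?_ ?_ ?_ ?_ (k := 3510) (l := 693) (m := 351)
    (fun x hx => (h7.2.1 x hx).1)
    (fun x hx y hy => (TSp.UCount.numbers_six ((h7.2.1 x hx).2.1 y hy)).1) h7.2.2 (r := 351) (s := -9) (by norm_num)
    (by norm_num) (by norm_num) (by norm_num)
  · have : 0 < (R08.FiTwentyThree.D).ncard := by rw [h7.1]; norm_num
    exact Set.nonempty_of_ncard_ne_zero this.ne'
  · intro d hd
    obtain ⟨g, hg⟩ := isConj_iff.1 (show IsConj Fischer.Fi23Z.z0 d from hd)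
    have h2 : orderOf d = orderOf Fischer.Fi23Z.z0 := by
      rw [← hg]
      exact orderOf_injective (MulAut.conj g).toMonoidHom (MulAut.conj g).injective _
    rw [h2]
    exact orderOf_eq_prime (by rw [pow_two]; exact KFacts.FiTTh.Cent.zz) z0_ne_one
  · intro g d hd
    exact R08.FiTwentyThree.conj_mem_D hd g
  · intro d hd
    exact cent_conj (show IsConj Fischer.Fi23Z.z0 d from hd) hz

/-- `M23` is the point stabiliser in `M24`. -/
def mulEquiv23 : Spor.M23 ≃* ↥(MulAction.stabilizer M24 (none : GolayPt)) where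
  toFun g := ⟨⟨g.1, g.2.1⟩, g.2.2⟩
  invFun g := ⟨(g.1 : Equiv.Perm GolayPt), g.1.2, g.2⟩
  left_inv _ := rfl
  right_inv _ := rfl
  map_mul' _ _ := rfl

theorem simple_M23 : IsSimpleGroup Spor.M23 := by
  have := Cfsg.Agent.S0377.result (none : GolayPt)
  exact (MulEquiv.isSimpleGroup_congr mulEquiv23).2 this

theorem two23 : CRow 2 Spor.Fi23 := by
  intro C h
  have := finite_fi23
  have := simple_fi23
  have hfact : Fact (Nat.Prime 2) := ⟨Nat.prime_two⟩
  have hO : pCore 2 Spor.Fi23 = ⊥ := pCore_eq_bot_of_simple na_fi23 2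
  have B := Has.base
  have hcard := B.cardN
  refine h.eq_one_of_two_exp hO (H := normalizer (BasDef.A BasFi.e : Set Spor.Fi23)) ?_ Has.odd ?_
  · intro h1
    rw [h1, card_top, card_fi23] at hcard
    norm_num at hcard
  · intro x hx
    have hs : IsSimpleGroup Spor.M23 := simple_M23
    have hN : ((pCore 2 ↥(normalizer (BasDef.A BasFi.e : Set Spor.Fi23))).map B.ind).Normal :=
      Subgroup.Normal.map inferInstance _ B.ind_surj
    rcases hN.eq_bot_or_eq_top with h1 | h1
    · have h2 : B.ind x ∈ (pCore 2 ↥(normalizer (BasDef.A BasFi.e : Set Spor.Fi23))).map B.ind := ⟨x, hx, rfl⟩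
      rw [h1, mem_bot] at h2
      have h3 := (B.ind_ker x).1 h2
      exact Subtype.ext (B.sq_A h3)
    · exfalso
      have h2 : IsPGroup 2 ((pCore 2 ↥(normalizer (BasDef.A BasFi.e : Set Spor.Fi23))).map B.ind) :=
        (pCore_isPGroup 2).map _
      rw [h1] at h2
      have h3 : IsPGroup 2 Spor.M23 := h2.of_equiv Subgroup.topEquiv
      obtain ⟨n, hn⟩ := (IsPGroup.iff_card.1 h3)
      rw [Cfsg.Agent.SporadicA.MathieuRecog.card_M23] at hn
      have h5 : 3 ∣ 2 ^ n := by rw [← hn]; norm_num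
      have h6 := Nat.prime_three.dvd_of_dvd_pow h5
      norm_num at h6

/-- **Row `Fi23`** -/
theorem crow_fi23 {p : ℕ} [hp : Fact p.Prime] {K : Type*} [Group K] (h : Spor.IsoFi23 K) : CRow p K := by
  obtain ⟨e⟩ := h
  refine CRow.of_equiv e ?_
  by_cases hp2 : p = 2
  · subst hp2
    exact two23
  · exact odd23 hp2

end Fi23

end Cfsg.Agent.H184.CCFi
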